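import Cfsg.Agent.Lib.Helper6.TCD.ONX.Xa0
import Cfsg.Agent.Lib.Helper6.TCD.ONX.Xa1
import Cfsg.Agent.Lib.Helper6.TCD.ONX.Xa2
import Cfsg.Agent.Lib.Helper6.TCD.ONX.Xb0
import Cfsg.Agent.Lib.Helper6.TCD.ONX.Xb1
import Cfsg.Agent.Lib.Helper6.TCD.ONX.Xb2
import Cfsg.Agent.Lib.Helper6.TCD.ONX.Xb3
import Cfsg.Agent.Lib.Helper6.TCD.ONX.Xb4
import Cfsg.Agent.Lib.Helper6.TCD.ONX.Xb5
import Cfsg.Agent.Lib.Helper6.TCD.ONX.Xb6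
import Cfsg.Agent.Lib.Helper6.TCD.ONX.Xb7
import Cfsg.Agent.Lib.Helper6.TCD.ONX.Xb8
import Cfsg.Agent.Lib.Helper6.TCD.ONX.Xb9
import Cfsg.Agent.Lib.Helper6.TCD.ONX.Xb10
import Cfsg.Agent.Lib.Helper6.TCD.ONX.Xb11
import Cfsg.Agent.Lib.Helper6.TCD.ONX.Xb12
import Cfsg.Agent.Lib.Helper6.TCD.ONX.Xb13
import Cfsg.Agent.Lib.Helper6.TCD.ONX.Xb14
import Cfsg.Agent.Lib.Helper6.TCD.ONX.Xb15
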